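import Cfsg.Agent.H86.OneToFive.Counting
import Cfsg.Agent.H31.SylowPrime

/-!
A group with element orders at most five and a Sylow 3-subgroup of order at least nine is simple of
order 360.
-/

set_option autoImplicit false

namespace Cfsg.Agent.H86.OneToFive

open Subgroup
open scoped Pointwise

variable {G : Type*} [Group G] [Finite G] (h5 : OrderLeFive G) (P : Sylow 3 G)
  (hP : 9 ≤ Nat.card P) (h5G : 5 ∣ Nat.card G)
include h5

/-- An element of order three does not normalize a subgroup of order five. -/
theorem not_normalizes {y w : G} (hy : orderOf y = 5) (hw : orderOf w = 3)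
    (h : w * y * w⁻¹ ∈ zpowers y) : False := by
  obtain ⟨k, hk⟩ := mem_powers_iff_mem_zpowers.2 h
  simp only at hk
  have h2 : ∀ j : ℕ, w * y ^ j * w⁻¹ = y ^ (k * j) := fun j => by
    rw [← conj_pow, ← hk, ← pow_mul]
  have hy' : y ^ (k * (k * k)) = y := by
    rw [← h2, ← h2, hk]
    calc w * (w * (w * y * w⁻¹) * w⁻¹) * w⁻¹ = w ^ 3 * y * (w ^ 3)⁻¹ := by
          rw [pow_three]; group
      _ = y := by rw [← hw, pow_orderOf_eq_one, one_mul, inv_one, mul_one]
  have hm : k * (k * k) % 5 = 1 := by
    have := pow_eq_pow_iff_modEq.1 (hy'.trans (pow_one y).symm)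
    rwa [hy] at this
  have hk1 : k % 5 = 1 := by
    rw [Nat.mul_mod, Nat.mul_mod k k] at hm
    have : k % 5 < 5 := Nat.mod_lt _ (by norm_num)
    interval_cases hh : k % 5 <;> omega
  rw [← pow_mod_orderOf y k, hy, hk1, pow_one] at hk
  have hcomm : Commute w y := mul_inv_eq_iff_eq_mul.1 hk.symm
  rcases orderOf_commute_three h5 hw hcomm with h | h <;> omega

include hP h5G

/-- The order is 360 and there are 45 involutions. -/
theorem card_eq_360 (hinv : ∃ d : G, orderOf d = 2) :
    Nat.card G = 360 ∧ Nat.card {g : G // orderOf g = 2} = 45 ∧ Nat.card P = 9 ∧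
      10 ≤ Nat.card (Sylow 3 G) := by
  have : Fact (Nat.Prime 3) := ⟨Nat.prime_three⟩
  have : Fact (Nat.Prime 2) := ⟨Nat.prime_two⟩
  obtain ⟨d, hd⟩ := hinv
  obtain ⟨T⟩ := (inferInstance : Nonempty (Sylow 2 G))
  have hT : Nat.card T ≠ 1 := fun h => by
    have h1 := T.dvd_card_of_dvd_card (show 2 ∣ Nat.card G from hd ▸ orderOf_dvd_natCard d)
    rw [h] at h1
    norm_num at h1
  obtain ⟨hG, hi⟩ := card_of_nine_le h5 P hP T hT h5G
  obtain ⟨b, hb⟩ := IsPGroup.iff_card.1 P.2
  obtain ⟨u, hdu, -, hu⟩ := exists_inverting h5 P hP hd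
  have huo : orderOf u = 2 := (orderOf_of_isConj hdu).trans hd
  -- the Sylow subgroup is not normal
  obtain ⟨R, hR⟩ : ∃ R : Sylow 3 G, R ≠ P := by
    by_contra hcon
    push Not at hcon
    have hall : ∀ a : {g : G // orderOf g = 2}, ∀ g ∈ P, a.1 * g * a.1⁻¹ = g⁻¹ := fun a g hg => by
      obtain ⟨v, hav, -, hv⟩ := exists_inverting h5 P hP a.2
      obtain ⟨c, hc⟩ := isConj_iff.1 hav
      have hg' : c * g * c⁻¹ ∈ P := by
        have h2 : c • P = P := hcon _
        have h3 := Subgroup.mem_normalizer_iff.1 (Sylow.smul_eq_iff_mem_normalizer.1 h2) g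
        exact h3.1 hg
      have h1 := hv _ hg'
      rw [← hc] at h1
      calc a.1 * g * a.1⁻¹ = c⁻¹ * (c * a.1 * c⁻¹ * (c * g * c⁻¹) * (c * a.1 * c⁻¹)⁻¹) * c := by group
        _ = g⁻¹ := by rw [h1]; group
    have hle : Nat.card {g : G // orderOf g = 2} ≤ Nat.card (Inverters P) :=
      Nat.card_le_card_of_injective (fun a => (⟨a.1, a.2, hall a⟩ : Inverters P))
        fun a b h => Subtype.ext (congrArg (fun e : Inverters P => e.1) h)
    rw [(card_inverters h5 P hP ⟨d, hd⟩).1, hi] at hle
    omega
  have hTI : ∀ g ∈ P, g ∈ R → g = 1 := fun g hg hgR => by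
    by_contra hg1
    apply hR
    refine (Sylow.ext (Subgroup.eq_of_le_of_card_ge (fun a ha => ?_) ?_))
    · exact mem_of_commute h5 P hP ⟨d, hd⟩ hg hg1
        (sylow_commute h5 R (by rw [R.card_eq_multiplicity, ← P.card_eq_multiplicity]; exact hP) ⟨d, hd⟩ hgR ha)
    · rw [R.card_eq_multiplicity, ← P.card_eq_multiplicity]
  have hn3 : Nat.card P + 1 ≤ Nat.card (Sylow 3 G) := by
    rw [← Finite.card_option (α := P)]
    refine Nat.card_le_card_of_injective
      (fun o : Option P => o.elim P (fun r => (r : G) • R)) fun a b hab => ?_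
    have hne : ∀ r : P, (r : G) • R ≠ P := fun r h => hR (by
      rw [eq_inv_smul_iff.2 h]
      exact Sylow.smul_eq_iff_mem_normalizer.2 (Subgroup.le_normalizer (inv_mem r.2)))
    rcases a with _ | a <;> rcases b with _ | b <;> simp only [Option.elim_none, Option.elim_some] at hab
    · rfl
    · exact absurd hab.symm (hne b)
    · exact absurd hab (hne a)
    · have h1 : ((b : G)⁻¹ * a) • R = R := by rw [mul_smul, hab, inv_smul_smul]
      have h2 : (b : G)⁻¹ * a ∈ P := mul_mem (inv_mem b.2) a.2
      obtain ⟨j, hj⟩ := IsPGroup.iff_orderOf.1 P.2 ⟨_, h2⟩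
      rw [← orderOf_coe] at hj
      have h3 := H31.mem_sylow_of_mem_normalizer R (Sylow.smul_eq_iff_mem_normalizer.1 h1) (k := j) hj
      exact congrArg some (Subtype.ext (inv_mul_eq_one.1 (hTI _ h2 h3)).symm)
  have hN : Nat.card (Sylow 3 G) * (2 * Nat.card P) ∣ 40 * Nat.card P := by
    rw [← hG, ← Subgroup.index_mul_card (normalizer (P : Set G)),
      ← P.card_eq_index_normalizer]
    refine Nat.mul_dvd_mul_left _ (Nat.Coprime.mul_dvd_of_dvd_of_dvd ?_ ?_
      (Subgroup.card_dvd_of_le Subgroup.le_normalizer))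
    · rw [hb]; exact Nat.Coprime.pow_right _ (by norm_num)
    · have hun : u ∈ normalizer (P : Set G) := by
        show u ∈ normalizer ((P : Subgroup G) : Set G)
        rw [Subgroup.mem_normalizer_iff]
        refine fun a => ⟨fun ha => ?_, fun ha => ?_⟩
        · show u * a * u⁻¹ ∈ P
          rw [hu a ha]; exact inv_mem ha
        · have h1 := hu _ ha
          rw [show u * (u * a * u⁻¹) * u⁻¹ = (u * u) * a * (u * u)⁻¹ by group, ← sq, ← huo,
            pow_orderOf_eq_one, one_mul, inv_one, mul_one] at h1
          show a ∈ P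
          rw [h1]; exact inv_mem ha
      have h := orderOf_dvd_natCard (G := normalizer (P : Set G)) ⟨u, hun⟩
      rwa [orderOf_mk, huo] at h
  have h20 : Nat.card (Sylow 3 G) ∣ 20 := by
    rw [show 40 * Nat.card P = 20 * (2 * Nat.card P) by ring] at hN
    exact Nat.dvd_of_mul_dvd_mul_right (by omega) hN
  have := Nat.le_of_dvd (by norm_num) h20
  have hb2 : b = 2 := by
    rcases b with _ | _ | _ | b <;> omega
  have hb9 : Nat.card P = 9 := by rw [hb, hb2]; norm_num
  exact ⟨by rw [hG, hb9], by rw [hi, hb9], hb9, by omega⟩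

/-- The group is simple. -/
theorem isSimple_of_nine_le (hinv : ∃ d : G, orderOf d = 2) : IsSimpleGroup G := by
  have : Fact (Nat.Prime 3) := ⟨Nat.prime_three⟩
  have : Fact (Nat.Prime 5) := ⟨Nat.prime_five⟩
  obtain ⟨hG, hi, hp, hn3⟩ := card_eq_360 h5 P hP h5G hinv
  have : Nontrivial G := Finite.one_lt_card_iff_nontrivial.1 (by omega)
  obtain ⟨F⟩ := (inferInstance : Nonempty (Sylow 5 G))
  have hF : Nat.card F = 5 := by
    rw [F.card_eq_multiplicity, hG]
    have h : (360 : ℕ).factorization 5 = 1 := by
      rw [show (360 : ℕ) = 5 ^ 1 * 72 by norm_num,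
        Nat.factorization_mul (by norm_num) (by norm_num), Finsupp.add_apply,
        Nat.Prime.factorization_pow Nat.prime_five, Finsupp.single_eq_same,
        Nat.factorization_eq_zero_of_not_dvd (by norm_num)]
    rw [h, pow_one]
  have hn5 : Nat.card (Sylow 5 G) = 36 := by
    have h1 : Nat.card (Sylow 5 G) % 5 = 1 := card_sylow_modEq_one 5 G
    have h2 : Nat.card (Sylow 5 G) * Nat.card (normalizer (F : Set G)) = 360 := by
      rw [F.card_eq_index_normalizer, Subgroup.index_mul_card, hG]
    have h5N : 5 ∣ Nat.card (normalizer (F : Set G)) := by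
      exact hF.symm.dvd.trans (Subgroup.card_dvd_of_le Subgroup.le_normalizer)
    have h3N : ¬ 3 ∣ Nat.card (normalizer (F : Set G)) := fun h => by
      obtain ⟨w, hw⟩ := exists_prime_orderOf_dvd_card' 3 h
      have : IsCyclic F := isCyclic_of_prime_card hF
      obtain ⟨y, hy⟩ := IsCyclic.exists_ofOrder_eq_natCard (α := F)
      rw [hF, ← orderOf_coe] at hy
      have hFy : (F : Subgroup G) = zpowers (y : G) :=
        (Subgroup.eq_of_le_of_card_ge (zpowers_le.2 y.2) (by rw [Nat.card_zpowers, hy, hF])).symm
      refine not_normalizes h5 hy ((orderOf_coe w).trans hw) ?_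
      rw [← hFy]
      exact (Subgroup.mem_normalizer_iff.1 w.2 (y : G)).1 y.2
    obtain ⟨k, hk⟩ := h5N
    rw [hk] at h2 h3N
    have h72 : Nat.card (Sylow 5 G) * k = 72 := by nlinarith
    have hd : Nat.card (Sylow 5 G) ∈ Nat.divisors 72 := Nat.mem_divisors.2 ⟨⟨k, h72.symm⟩, by norm_num⟩
    rw [show Nat.divisors 72 = {1, 2, 3, 4, 6, 8, 9, 12, 18, 24, 36, 72} by decide] at hd
    simp only [Finset.mem_insert, Finset.mem_singleton] at hd
    have h3k : k % 3 ≠ 0 := fun h => h3N (Dvd.dvd.mul_left (Nat.dvd_of_mod_eq_zero h) 5)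
    rcases hd with h | h | h | h | h | h | h | h | h | h | h | h <;> rw [h] at h1 h72 <;> omega
  have hmem_inv : ∀ N : Subgroup G, N.Normal → 2 ∣ Nat.card N →
      ∀ g : G, orderOf g = 2 → g ∈ N := fun N hN h2 g hg => by
    have : Fact (Nat.Prime 2) := ⟨Nat.prime_two⟩
    obtain ⟨a, ha⟩ := exists_prime_orderOf_dvd_card' 2 h2
    obtain ⟨c, hc⟩ := isConj_iff.1 (isConj_of_involution h5 P hP ((orderOf_coe a).trans ha) hg)
    rw [← hc]; exact hN.conj_mem _ a.2 c
  refine { eq_bot_or_eq_top_of_normal := fun N hN => ?_ }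
  have hdvd : Nat.card N ∣ 360 := hG ▸ card_subgroup_dvd_card N
  by_cases h5N : 5 ∣ Nat.card N
  · -- all elements of order five lie in `N`
    obtain ⟨y, hy⟩ := exists_prime_orderOf_dvd_card' 5 h5N
    rw [← orderOf_coe] at hy
    have hall : ∀ g : G, orderOf g = 5 → g ∈ N := fun g hg => by
      obtain ⟨Q, hQ⟩ := H31.exists_sylow_eq_zpowers F hF hg
      obtain ⟨R, hR⟩ := H31.exists_sylow_eq_zpowers F hF hy
      obtain ⟨c, hc⟩ := MulAction.exists_smul_eq G R Q
      have hg' : g ∈ ((c • R : Sylow 5 G) : Subgroup G) := by rw [hc, hQ]; exact mem_zpowers g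
      rw [Sylow.coe_subgroup_smul, hR, Subgroup.mem_pointwise_smul_iff_inv_smul_mem] at hg'
      have h2 := (zpowers_le.2 y.2) hg'
      simp at h2
      simpa [mul_assoc] using hN.conj_mem _ h2 c
    have h144 : Nat.card {g : G // orderOf g = 5} = 144 := by
      rw [H31.card_orderOf_eq_prime F hF, hn5]
    have h145 : 145 ≤ Nat.card N := by
      have := Nat.card_le_card_of_injective
        (fun o : Option {g : G // orderOf g = 5} => o.elim (1 : N) (fun g => ⟨g.1, hall g.1 g.2⟩))
        (fun a b hab => by
          rcases a with _ | a <;> rcases b with _ | b <;> simp [Subtype.ext_iff] at hab ⊢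
          · have := b.2; rw [← hab, orderOf_one] at this; omega
          · have := a.2; rw [hab, orderOf_one] at this; omega
          · exact hab)
      rw [Finite.card_option, h144] at this
      exact this
    rcases eq_or_ne (Nat.card N) 360 with h | h
    · exact Or.inr (Subgroup.eq_top_of_card_eq N (h.trans hG.symm))
    exfalso
    obtain ⟨k, hk⟩ := hdvd
    have h180 : Nat.card N = 180 := by
      have : k ≤ 2 := by nlinarith
      interval_cases k <;> omega
    have hall2 := hmem_inv N hN (by rw [h180]; norm_num)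
    have := Nat.card_le_card_of_injective
      (fun o : {g : G // orderOf g = 5} ⊕ {g : G // orderOf g = 2} =>
        o.elim (fun g => (⟨g.1, hall g.1 g.2⟩ : N)) (fun g => ⟨g.1, hall2 g.1 g.2⟩))
      (fun a b hab => by
        rcases a with a | a <;> rcases b with b | b <;> simp [Subtype.ext_iff] at hab ⊢
        · exact hab
        · have := a.2; rw [hab, b.2] at this; omega
        · have := a.2; rw [hab, b.2] at this; omega
        · exact hab)
    rw [Nat.card_sum, h144, hi, h180] at this
    omega
  · rcases eq_or_ne (Nat.card N) 1 with h | h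
    · exact Or.inl (Subgroup.eq_bot_of_card_eq N h)
    exfalso
    have h72 : Nat.card N ∣ 72 :=
      ((Nat.prime_five.coprime_iff_not_dvd.2 h5N).symm).dvd_of_dvd_mul_left (m := 5) hdvd
    have hle := Nat.le_of_dvd (by norm_num) h72
    have h36 : ¬ (P : Subgroup G) ≤ N := fun hPN => by
      -- Frattini argument: the normalizer of `P` lies in `N`
      have hNP : normalizer (P : Set G) ≤ N := fun g hg => by
        rw [← QuotientGroup.eq_one_iff]
        have h1 : orderOf (g : G ⧸ N) ∣ Nat.card (normalizer (P : Set G)) :=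
          (orderOf_map_dvd (QuotientGroup.mk' N) g).trans (by
            rw [← orderOf_mk (H := normalizer (P : Set G)) g hg]
            exact orderOf_dvd_natCard _)
        have h2 : orderOf (g : G ⧸ N) ∣ N.index := orderOf_dvd_natCard _
        have h3 : ¬ 5 ∣ Nat.card (normalizer (P : Set G)) := fun h => by
          obtain ⟨k, hk⟩ := h
          have h4 : Nat.card (Sylow 3 G) * Nat.card (normalizer (P : Set G)) = 360 := by
            rw [P.card_eq_index_normalizer, Subgroup.index_mul_card, hG]
          have h9 : 9 ∣ k := by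
            have : 9 ∣ 5 * k := by
              rw [← hk, ← hp]; exact Subgroup.card_dvd_of_le Subgroup.le_normalizer
            exact (by norm_num : Nat.Coprime 9 5).dvd_of_dvd_mul_left this
          obtain ⟨l, rfl⟩ := h9
          rw [hk] at h4
          have : l ≠ 0 := fun h => by simp [h] at h4
          have h8 : Nat.card (Sylow 3 G) * l = 8 := by nlinarith
          nlinarith [Nat.pos_of_ne_zero this]
        have h9N : Nat.card N = 9 ∨ Nat.card N = 18 ∨ Nat.card N = 36 ∨ Nat.card N = 72 := by
          obtain ⟨m, hm⟩ : 9 ∣ Nat.card N := hp ▸ Subgroup.card_dvd_of_le hPN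
          have : m ∣ 8 := Nat.dvd_of_mul_dvd_mul_left (show 0 < 9 by norm_num) (hm ▸ h72)
          have := Nat.le_of_dvd (by norm_num) this
          have : m ∣ 8 := Nat.dvd_of_mul_dvd_mul_left (show 0 < 9 by norm_num) (hm ▸ h72)
          interval_cases m <;> omega
        have hev : 2 ∣ Nat.card N → Nat.card N = 72 := fun h2N => by
          have h46 := Nat.card_le_card_of_injective
            (fun g : {g : G // orderOf g = 2} => (⟨g.1, hmem_inv N hN h2N g.1 g.2⟩ : N))
            (fun a b hab => Subtype.ext (congrArg Subtype.val hab :))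
          rw [hi] at h46
          omega
        have hidx : N.index = 5 := by
          have h4 : N.index * Nat.card N = 360 := by rw [Subgroup.index_mul_card, hG]
          rcases h9N with h | h | h | h
          · exfalso
            have hPe : (P : Subgroup G) = N :=
              Subgroup.eq_of_le_of_card_ge hPN (by rw [h]; exact hp.ge)
            have : (P : Subgroup G).Normal := hPe ▸ hN
            have := Sylow.unique_of_normal P this
            rw [Nat.card_unique] at hn3
            omega
          all_goals (have := hev (by omega); rw [this] at h4; omega)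
        rw [hidx] at h2
        rcases (Nat.dvd_prime Nat.prime_five).1 h2 with h4 | h4
        · exact orderOf_eq_one_iff.1 h4
        · exact absurd (h4 ▸ h1) h3
      have htop : normalizer (P : Set G) ⊔ N = ⊤ := by
        have := Sylow.normalizer_sup_eq_top (P.subtype hPN)
        rwa [show Subgroup.map N.subtype ((P.subtype hPN : Sylow 3 N) : Subgroup N) = (P : Subgroup G) by
          simp [Subgroup.map_subgroupOf_eq_of_le hPN]] at this
      rw [sup_eq_right.2 hNP] at htop
      rw [htop, Subgroup.card_top, hG] at hle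
      omega
    by_cases h2N : 2 ∣ Nat.card N
    · have h46 := Nat.card_le_card_of_injective
        (fun o : Option {g : G // orderOf g = 2} =>
          o.elim (1 : N) (fun g => ⟨g.1, hmem_inv N hN h2N g.1 g.2⟩))
        (fun a b hab => by
          rcases a with _ | a <;> rcases b with _ | b <;> simp [Subtype.ext_iff] at hab ⊢
          · have := b.2; rw [← hab, orderOf_one] at this; omega
          · have := a.2; rw [hab, orderOf_one] at this; omega
          · exact hab)
      rw [Finite.card_option, hi] at h46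
      obtain ⟨k, hk⟩ := h72
      have hN72 : Nat.card N = 72 := by
        have : k ≤ 1 := by nlinarith
        interval_cases k <;> omega
      apply h36
      -- the index is prime to three
      intro g hg
      rw [← QuotientGroup.eq_one_iff]
      have h2 : orderOf (g : G ⧸ N) ∣ N.index := orderOf_dvd_natCard _
      have h4 : N.index * Nat.card N = 360 := by rw [Subgroup.index_mul_card, hG]
      rw [hN72] at h4
      rw [show N.index = 5 by omega] at h2
      have h1 : orderOf (g : G ⧸ N) ∣ 9 := (orderOf_map_dvd (QuotientGroup.mk' N) g).trans (by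
        rw [← hp, ← orderOf_mk (H := (P : Subgroup G)) g hg]; exact orderOf_dvd_natCard _)
      exact orderOf_eq_one_iff.1 (Nat.dvd_one.1 ((Nat.dvd_gcd h2 h1).trans (by norm_num)))
    · -- an odd normal subgroup is a 3-group inside every Sylow 3-subgroup
      have h9 : Nat.card N ∣ 9 :=
        ((Nat.Coprime.pow_left 3 (Nat.prime_two.coprime_iff_not_dvd.2 h2N)).symm).dvd_of_dvd_mul_left
          (show Nat.card N ∣ 2 ^ 3 * 9 from h72)
      obtain ⟨k, -, hk⟩ := (Nat.dvd_prime_pow Nat.prime_three).1 (show Nat.card N ∣ 3 ^ 2 from h9)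
      obtain ⟨Q, hQ⟩ := (IsPGroup.of_card hk).exists_le_sylow
      have hNS : ∀ S : Sylow 3 G, N ≤ (S : Subgroup G) := fun S g hg => by
        obtain ⟨c, hc⟩ := MulAction.exists_smul_eq G Q S
        rw [← hc, Sylow.coe_subgroup_smul, Subgroup.mem_pointwise_smul_iff_inv_smul_mem]
        refine hQ ?_
        simpa [MulAut.conj_inv_apply] using hN.conj_mem g hg c⁻¹
      have : Nontrivial N := Finite.one_lt_card_iff_nontrivial.1 (by have := Nat.card_pos (α := N); omega)
      obtain ⟨⟨g, hg⟩, hg1⟩ := exists_ne (1 : N)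
      have hg1' : g ≠ 1 := fun h => hg1 (Subtype.ext h)
      have hall : ∀ S : Sylow 3 G, S = P := fun S => by
        refine Sylow.ext (Subgroup.eq_of_le_of_card_ge (fun a ha => ?_) ?_)
        · exact mem_of_commute h5 P hP hinv (hNS P hg) hg1' (sylow_commute h5 S
            (by rw [S.card_eq_multiplicity, ← P.card_eq_multiplicity]; exact hP) hinv (hNS S hg) ha)
        · rw [S.card_eq_multiplicity, ← P.card_eq_multiplicity]
      have : Subsingleton (Sylow 3 G) := ⟨fun a b => (hall a).trans (hall b).symm⟩
      rw [Nat.card_of_subsingleton P] at hn3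
      omega

end Cfsg.Agent.H86.OneToFive
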