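import Mathlib.LinearAlgebra.Matrix.ProjectiveSpecialLinearGroup
import Mathlib.Tactic

/-!
An element of order seven in the projective special linear group over the field of seven elements.
-/

set_option autoImplicit false

namespace Cfsg.Agent.H86.OneToFive

open Matrix

/-- An upper unitriangular element of the special linear group. -/
def upperSeven : Matrix.SpecialLinearGroup (Fin 2) (ZMod 7) :=
  ⟨!![1, 1; 0, 1], by simp [Matrix.det_fin_two]⟩

/-- A lower unitriangular element of the special linear group. -/
def lowerSeven : Matrix.SpecialLinearGroup (Fin 2) (ZMod 7) :=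
  ⟨!![1, 0; 1, 1], by simp [Matrix.det_fin_two]⟩

theorem upperSeven_pow : upperSeven ^ 7 = 1 := by decide +kernel

theorem upperSeven_noncentral : lowerSeven * upperSeven ≠ upperSeven * lowerSeven := by
  decide +kernel

theorem exists_orderOf_seven :
    ∃ g : Matrix.ProjectiveSpecialLinearGroup (Fin 2) (ZMod 7), orderOf g = 7 := by
  have : Fact (Nat.Prime 7) := ⟨by norm_num⟩
  exact ⟨QuotientGroup.mk' _ upperSeven, orderOf_eq_prime
    (by rw [← map_pow, upperSeven_pow, map_one])
    (fun h => upperSeven_noncentral
      (Subgroup.mem_center_iff.1 ((QuotientGroup.eq_one_iff upperSeven).1 h) lowerSeven))⟩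

end Cfsg.Agent.H86.OneToFive
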