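import Cfsg.Agent.H86.OneToFive.Inverting
import Cfsg.Agent.H24.MaxClass
import Cfsg.Agent.S4477
import Mathlib.GroupTheory.GroupAction.ConjAct

/-!
Counting involutions: the order of a group with element orders at most five whose Sylow 3-subgroups
have order at least nine.
-/

set_option autoImplicit false

namespace Cfsg.Agent.H86.OneToFive

open Subgroup

variable {G : Type*} [Group G] [Finite G]

/-- The involutions inverting a subgroup. -/
abbrev Inverters (P : Sylow 3 G) : Type _ :=
  {u : G // orderOf u = 2 ∧ ∀ g ∈ P, u * g * u⁻¹ = g⁻¹}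

/-- The conjugacy class of an element has as many elements as the index of its centralizer. -/
theorem card_isConj_mul_centralizer (d : G) :
    Nat.card {g : G // IsConj d g} * Nat.card (centralizer ({d} : Set G)) = Nat.card G := by
  have h := MulAction.index_stabilizer (G := ConjAct G) d
  rw [ConjAct.stabilizer_eq_centralizer] at h
  have h2 : (centralizer ({d} : Set G)).index = Nat.card {g : G // IsConj d g} := by
    rw [ConjAct.orbit_eq_carrier_conjClasses] at h
    refine h.trans ?_
    rw [← Nat.card_coe_set_eq]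
    exact Nat.card_congr (Equiv.subtypeEquivRight fun g =>
      ConjClasses.mem_carrier_iff_mk_eq.trans
        (ConjClasses.mk_eq_mk_iff_isConj.trans ⟨IsConj.symm, IsConj.symm⟩))
  rw [← h2, mul_comm, card_mul_index]

variable (h5 : OrderLeFive G)
include h5

/-- An element of order two in the center of a Sylow 2-subgroup has it as centralizer. -/
theorem exists_central_involution (T : Sylow 2 G) (hT : Nat.card T ≠ 1) :
    ∃ d, orderOf d = 2 ∧ centralizer ({d} : Set G) = (T : Subgroup G) := by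
  have : Fact (Nat.Prime 2) := ⟨Nat.prime_two⟩
  have : Nontrivial T := Finite.one_lt_card_iff_nontrivial.1 (by have := Nat.card_pos (α := T); omega)
  have := T.2.center_nontrivial
  have hdvd : 2 ∣ Nat.card (Subgroup.center T) := by
    obtain ⟨n, hn, hc⟩ := (T.2.to_subgroup (Subgroup.center T)).nontrivial_iff_card.1 inferInstance
    rw [hc]; exact dvd_pow_self 2 (by omega)
  obtain ⟨⟨d, hdc⟩, hd⟩ := exists_prime_orderOf_dvd_card' 2 hdvd
  have hdo : orderOf (d : G) = 2 := by rw [orderOf_coe]; rwa [← orderOf_coe] at hd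
  refine ⟨d, hdo, T.3 ?_ ?_⟩
  · refine IsPGroup.iff_orderOf.2 fun g => ?_
    rw [← orderOf_coe]
    rcases orderOf_commute_two h5 hdo (mem_centralizer_singleton_iff.1 g.2).symm with h | h | h
    exacts [⟨0, h⟩, ⟨1, h⟩, ⟨2, h⟩]
  · exact fun t ht => mem_centralizer_singleton_iff.2
      (congrArg Subtype.val (Subgroup.mem_center_iff.1 hdc ⟨t, ht⟩))

/-- The order of the group is the product of the orders of three Sylow subgroups. -/
theorem card_eq_mul (T : Sylow 2 G) (P : Sylow 3 G) (F : Sylow 5 G) :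
    Nat.card G = Nat.card T * Nat.card P * Nat.card F := by
  have : Fact (Nat.Prime 2) := ⟨Nat.prime_two⟩
  have : Fact (Nat.Prime 3) := ⟨Nat.prime_three⟩
  have : Fact (Nat.Prime 5) := ⟨Nat.prime_five⟩
  obtain ⟨a, ha⟩ := IsPGroup.iff_card.1 T.2
  obtain ⟨b, hb⟩ := IsPGroup.iff_card.1 P.2
  obtain ⟨e, he⟩ := IsPGroup.iff_card.1 F.2
  have h23 : (Nat.card T).Coprime (Nat.card P) := by
    rw [ha, hb]; exact Nat.Coprime.pow _ _ (by norm_num)
  have h235 : (Nat.card T * Nat.card P).Coprime (Nat.card F) := by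
    rw [ha, hb, he]
    exact Nat.Coprime.mul_left (Nat.Coprime.pow _ _ (by norm_num)) (Nat.Coprime.pow _ _ (by norm_num))
  obtain ⟨m, hm⟩ : Nat.card T * Nat.card P * Nat.card F ∣ Nat.card G :=
    h235.mul_dvd_of_dvd_of_dvd (h23.mul_dvd_of_dvd_of_dvd (card_subgroup_dvd_card _)
      (card_subgroup_dvd_card _)) (card_subgroup_dvd_card _)
  rcases eq_or_ne m 1 with rfl | hne
  · rw [hm, mul_one]
  obtain ⟨q, hq, hqm⟩ := Nat.exists_prime_and_dvd hne
  have : Fact q.Prime := ⟨hq⟩
  obtain ⟨g, hg⟩ := exists_prime_orderOf_dvd_card' q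
    (show q ∣ Nat.card G from hm ▸ dvd_mul_of_dvd_right hqm _)
  have hq5 := hg ▸ h5 g
  have key : ∀ {r : ℕ} (S : Sylow r G) [Fact r.Prime] (k : ℕ), r = q →
      Nat.card T * Nat.card P * Nat.card F = Nat.card S * k → False := by
    intro r S _ k hr hk
    refine S.not_dvd_index ?_
    subst hr
    have h1 : Nat.card S * S.index = Nat.card S * (k * m) := by
      rw [Subgroup.card_mul_index, hm, hk, mul_assoc]
    rw [Nat.eq_of_mul_eq_mul_left Nat.card_pos h1]
    exact dvd_mul_of_dvd_right hqm _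
  have := hq.two_le
  interval_cases q
  · exact (key T _ rfl (mul_assoc _ _ _)).elim
  · exact (key P (Nat.card T * Nat.card F) rfl (by ring)).elim
  · norm_num at hq
  · exact (key F (Nat.card T * Nat.card P) rfl (by ring)).elim

variable (P : Sylow 3 G) (hP : 9 ≤ Nat.card P)
include hP

/-- The involutions inverting the Sylow 3-subgroup form one coset of it. -/
theorem card_inverters (hinv : ∃ d : G, orderOf d = 2) :
    Nat.card (Inverters P) = Nat.card P ∧ ∀ u v : Inverters P, IsConj u.1 v.1 ∧ u.1 * v.1 ∈ P := by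
  have : Fact (Nat.Prime 3) := ⟨Nat.prime_three⟩
  have : Nontrivial P := Finite.one_lt_card_iff_nontrivial.1 (by omega)
  obtain ⟨⟨z, hz⟩, hz1⟩ := exists_ne (1 : P)
  have hzG : z ≠ 1 := fun h => hz1 (Subtype.ext h)
  obtain ⟨d, hd⟩ := hinv
  obtain ⟨u, hdu, -, hu⟩ := exists_inverting h5 P hP hd
  have huo : orderOf u = 2 := (orderOf_of_isConj hdu).trans hd
  have huu : u * u = 1 := by rw [← sq, ← huo, pow_orderOf_eq_one]
  have hui : u⁻¹ = u := inv_eq_of_mul_eq_one_right huu
  have huP : u ∉ P := fun h => by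
    have := orderOf_sylow h5 P h (fun h1 => by rw [h1, orderOf_one] at huo; omega)
    omega
  have hmem : ∀ v : G, orderOf v = 2 → (∀ g ∈ P, v * g * v⁻¹ = g⁻¹) →
      ∀ w : G, orderOf w = 2 → (∀ g ∈ P, w * g * w⁻¹ = g⁻¹) → v * w ∈ P := fun v _ hv w _ hw => by
    refine mem_of_commute h5 P hP ⟨d, hd⟩ hz hzG ?_
    have h1 : v * w * z * (v * w)⁻¹ = z := by
      rw [show v * w * z * (v * w)⁻¹ = v * (w * z * w⁻¹) * v⁻¹ by group, hw z hz,
        hv _ (inv_mem hz), inv_inv]
    exact (mul_inv_eq_iff_eq_mul.1 h1).symm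
  have hmk : ∀ r ∈ P, r * u * r⁻¹ = u * r ∧ orderOf (u * r) = 2 ∧
      ∀ g ∈ P, u * r * g * (u * r)⁻¹ = g⁻¹ := fun r hr => by
    have h3 : r ^ 3 = 1 := by
      rcases eq_or_ne r 1 with rfl | h
      · exact one_pow 3
      · rw [← orderOf_sylow h5 P hr h, pow_orderOf_eq_one]
    have h1 : r * u * r⁻¹ = u * r := by
      calc r * u * r⁻¹ = u * (u⁻¹ * r * u) * r⁻¹ := by group
        _ = u * (r⁻¹ * r⁻¹) := by
          rw [show u⁻¹ * r * u = u * r * u⁻¹ by rw [hui], hu r hr, mul_assoc]
        _ = u * r := by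
          rw [show r⁻¹ * r⁻¹ = (r ^ 3)⁻¹ * r by group, h3, inv_one, one_mul]
    refine ⟨h1, ?_, fun g hg => ?_⟩
    · rw [← h1, ← huo]; exact MulEquiv.orderOf_eq (MulAut.conj r) u
    · rw [show u * r * g * (u * r)⁻¹ = u * (r * g * r⁻¹) * u⁻¹ by group,
        (sylow_commute h5 P hP ⟨d, hd⟩ hr hg).eq, mul_inv_cancel_right, hu g hg]
  have hform : ∀ v : Inverters P, ∃ r ∈ P, v.1 = u * r := fun v =>
    ⟨u * v.1, hmem u huo hu v.1 v.2.1 v.2.2, by rw [← mul_assoc, huu, one_mul]⟩
  refine ⟨?_, fun v w => ⟨?_, hmem v.1 v.2.1 v.2.2 w.1 w.2.1 w.2.2⟩⟩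
  · refine (Nat.card_eq_of_bijective (fun r : P => (⟨u * r, (hmk r r.2).2⟩ : Inverters P))
      ⟨fun a b h => Subtype.ext (mul_left_cancel (congrArg Subtype.val h)), fun v => ?_⟩).symm
    obtain ⟨r, hr, h⟩ := hform v
    exact ⟨⟨r, hr⟩, Subtype.ext h.symm⟩
  · obtain ⟨r, hr, hv⟩ := hform v
    obtain ⟨s, hs, hw⟩ := hform w
    have h1 : IsConj u v.1 := isConj_iff.2 ⟨r, by rw [(hmk r hr).1, hv]⟩
    have h2 : IsConj u w.1 := isConj_iff.2 ⟨s, by rw [(hmk s hs).1, hw]⟩
    exact h1.symm.trans h2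

/-- All involutions are conjugate. -/
theorem isConj_of_involution {a b : G} (ha : orderOf a = 2) (hb : orderOf b = 2) : IsConj a b := by
  obtain ⟨u, hau, -, hu⟩ := exists_inverting h5 P hP ha
  obtain ⟨v, hbv, -, hv⟩ := exists_inverting h5 P hP hb
  have := ((card_inverters h5 P hP ⟨a, ha⟩).2 ⟨u, (orderOf_of_isConj hau).trans ha, hu⟩
    ⟨v, (orderOf_of_isConj hbv).trans hb, hv⟩).1
  exact (hau.trans this).trans hbv.symm

/-- The involutions are counted twice. -/
theorem card_involutions (T : Sylow 2 G) (hT : Nat.card T ≠ 1) :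
    Nat.card {g : G // orderOf g = 2} * Nat.card T = Nat.card G ∧
      Nat.card {g : G // orderOf g = 2} = Nat.card P * Nat.card {x : T // orderOf x = 2} := by
  obtain ⟨d₀, hd₀, hC⟩ := exists_central_involution h5 T hT
  refine ⟨?_, ?_⟩
  · rw [← card_isConj_mul_centralizer d₀, hC]
    exact congrArg (· * _) (Nat.card_congr (Equiv.subtypeEquivRight fun g =>
      ⟨fun hg => isConj_of_involution h5 P hP hd₀ hg, fun hg => (orderOf_of_isConj hg).trans hd₀⟩))
  · have hinv : ∃ d : G, orderOf d = 2 := ⟨d₀, hd₀⟩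
    have hex : ∀ d : {g : G // orderOf g = 2}, ∃! u : Inverters P, Commute u.1 d.1 := fun d => by
      obtain ⟨u, hdu, hud, hu⟩ := exists_inverting h5 P hP d.2
      refine ⟨⟨u, (orderOf_of_isConj hdu).trans d.2, hu⟩, hud, fun v hvd => ?_⟩
      have hmem := ((card_inverters h5 P hP hinv).2 v ⟨u, (orderOf_of_isConj hdu).trans d.2, hu⟩).2
      by_contra hne
      have hne1 : v.1 * u ≠ 1 := fun h => hne (Subtype.ext (by
        rw [eq_inv_of_mul_eq_one_left h]
        exact inv_eq_of_mul_eq_one_right (by rw [← sq, ← (orderOf_of_isConj hdu).trans d.2,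
          pow_orderOf_eq_one])))
      rcases orderOf_commute_two h5 d.2 (hvd.mul_left hud).symm with h | h | h <;>
        rw [orderOf_sylow h5 P hmem hne1] at h <;> omega
    choose f hf huniq using hex
    have hfib : ∀ u : Inverters P, Nat.card {d : {g : G // orderOf g = 2} // f d = u} =
        Nat.card {x : T // orderOf x = 2} := fun u => by
      obtain ⟨c, hc⟩ := isConj_iff.1 (isConj_of_involution h5 P hP hd₀ u.2.1)
      refine (Nat.card_eq_of_bijective (fun x : {x : T // orderOf x = 2} =>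
        (⟨⟨c * (x.1 : G) * c⁻¹, ?_⟩, ?_⟩ : {d : {g : G // orderOf g = 2} // f d = u})) ⟨?_, ?_⟩).symm
      · rw [← MulAut.conj_apply, MulEquiv.orderOf_eq, orderOf_coe]; exact x.2
      · refine (huniq _ u ?_).symm
        have hx : Commute d₀ (x.1 : G) := by
          have : (x.1 : G) ∈ centralizer ({d₀} : Set G) := by rw [hC]; exact x.1.2
          exact (mem_centralizer_singleton_iff.1 this).symm
        have := hx.map (MulAut.conj c)
        simp only [MulAut.conj_apply, hc] at this
        exact this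
      · intro a b h
        exact Subtype.ext (Subtype.ext ((MulAut.conj c).injective
          (congrArg (fun e => e.1.1) h)))
      · rintro ⟨⟨g, hg⟩, hgu⟩
        have hcu : Commute u.1 g := hgu ▸ hf ⟨g, hg⟩
        have h1 := hcu.map (MulAut.conj c⁻¹)
        simp only [MulAut.conj_apply, inv_inv] at h1
        rw [show c⁻¹ * u.1 * c = d₀ by rw [← hc]; group] at h1
        have hmT : c⁻¹ * g * c ∈ (T : Subgroup G) := by
          rw [← hC]; exact mem_centralizer_singleton_iff.2 h1.symm.eq
        refine ⟨⟨⟨c⁻¹ * g * c, hmT⟩, ?_⟩, ?_⟩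
        · rw [← orderOf_coe]
          have := MulEquiv.orderOf_eq (MulAut.conj c⁻¹) g
          simp only [MulAut.conj_apply, inv_inv] at this
          exact this.trans hg
        · exact Subtype.ext (Subtype.ext (by group))
    have := Fintype.ofFinite (Inverters P)
    rw [← Nat.card_congr (Equiv.sigmaFiberEquiv f), Nat.card_sigma,
      Finset.sum_congr rfl (fun u _ => hfib u), Finset.sum_const, smul_eq_mul, Finset.card_univ,
      ← Nat.card_eq_fintype_card, (card_inverters h5 P hP hinv).1]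

omit hP in
/-- A Sylow 2-subgroup with involution count congruent to one modulo four has at most eight elements. -/
theorem card_sylow_two_le (T : Sylow 2 G)
    (hj : Nat.card {x : T // orderOf x = 2} % 4 = 1) : Nat.card T ≤ 8 := by
  have : Fact (Nat.Prime 2) := ⟨Nat.prime_two⟩
  have hcyc : ∀ H : Subgroup T, IsCyclic H → Nat.card H ≤ 4 := fun H hH => by
    obtain ⟨g, hg⟩ := IsCyclic.exists_ofOrder_eq_natCard (α := H)
    rw [← hg, ← orderOf_coe, ← orderOf_coe]
    have hle := h5 ((g : T) : G)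
    obtain ⟨k, hk⟩ := IsPGroup.iff_orderOf.1 T.2 (g : T)
    rw [← orderOf_coe] at hk
    rw [hk] at hle ⊢
    rcases k with _ | _ | _ | k <;> try norm_num
    have : 2 ^ 3 ≤ 2 ^ (k + 1 + 1 + 1) := Nat.pow_le_pow_right (by norm_num) (by omega)
    exact absurd (this.trans hle) (by norm_num)
  rcases S4477.result T.2 hj with hc | hc
  · have := hcyc ⊤ (Subgroup.topEquiv.isCyclic.2 hc)
    rw [Subgroup.card_top] at this
    exact this.trans (by norm_num)
  · obtain ⟨k, hk⟩ := IsPGroup.iff_card.1 T.2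
    rcases lt_or_ge k 2 with h | h
    · rw [hk]
      exact (Nat.pow_le_pow_right (by norm_num) (show k ≤ 3 by omega)).trans (by norm_num)
    · obtain ⟨⟨C, hC, hCi⟩, -⟩ := H24.two_group_commutator_index_four T k hk h hc
      have := C.card_mul_index
      rw [hCi] at this
      have := hcyc C hC
      omega

/-- The group has order `40 * |P|` and `5 * |P|` involutions. -/
theorem card_of_nine_le (T : Sylow 2 G) (hT : Nat.card T ≠ 1) (h5G : 5 ∣ Nat.card G) :
    Nat.card G = 40 * Nat.card P ∧ Nat.card {g : G // orderOf g = 2} = 5 * Nat.card P := by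
  have : Fact (Nat.Prime 2) := ⟨Nat.prime_two⟩
  have : Fact (Nat.Prime 5) := ⟨Nat.prime_five⟩
  obtain ⟨F⟩ := (inferInstance : Nonempty (Sylow 5 G))
  obtain ⟨h1, h2⟩ := card_involutions h5 P hP T hT
  have hG := card_eq_mul h5 T P F
  have hjF : Nat.card {x : T // orderOf x = 2} = Nat.card F := by
    rw [h2, hG] at h1
    apply Nat.eq_of_mul_eq_mul_left (show 0 < Nat.card P * Nat.card T from
      Nat.mul_pos Nat.card_pos Nat.card_pos)
    calc _ = Nat.card P * Nat.card {x : T // orderOf x = 2} * Nat.card T := by ring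
      _ = _ := by rw [h1]; ring
  obtain ⟨e, he⟩ := IsPGroup.iff_card.1 F.2
  have hc8 := card_sylow_two_le h5 T (by rw [hjF, he, Nat.pow_mod]; norm_num)
  have hlt : Nat.card {x : T // orderOf x = 2} < Nat.card T :=
    Finite.card_subtype_lt (x := (1 : T)) (by rw [orderOf_one]; norm_num)
  have he0 : e ≠ 0 := fun h => by
    rw [h, pow_zero] at he
    have h1' := F.dvd_card_of_dvd_card h5G
    rw [he] at h1'
    norm_num at h1'
  have he1 : e = 1 := by
    by_contra hne
    have : 5 ^ 2 ≤ 5 ^ e := Nat.pow_le_pow_right (by norm_num) (by omega)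
    omega
  rw [he1, pow_one] at he
  obtain ⟨a, ha⟩ := IsPGroup.iff_card.1 T.2
  have ha3 : a = 3 := by
    have : a ≤ 3 := by
      by_contra hne
      have : 2 ^ 4 ≤ 2 ^ a := Nat.pow_le_pow_right (by norm_num) (by omega)
      omega
    interval_cases a <;> omega
  constructor
  · rw [hG, ha, ha3, he]; ring
  · rw [h2, hjF, he, mul_comm]

end Cfsg.Agent.H86.OneToFive
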