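import Cfsg.Agent.H86.OneToFive.Key
import Cfsg.Agent.H37.Involution
import Cfsg.Agent.H31.SylowPrime
import Mathlib.GroupTheory.Sylow
import Mathlib.Tactic.IntervalCases

/-!
Involutions inverting a Sylow 3-subgroup of order at least nine, in a group with element orders at
most five.
-/

set_option autoImplicit false

namespace Cfsg.Agent.H86.OneToFive

variable {G : Type*} [Group G] [Finite G] (h5 : OrderLeFive G)
include h5

/-- Commuting non-identity elements have orders that are not coprime. -/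
theorem not_coprime_of_commute {a b : G} (hab : Commute a b) (ha : orderOf a ≠ 1)
    (hb : orderOf b ≠ 1) : ¬ (orderOf a).Coprime (orderOf b) := by
  intro hco
  have h := h5 (a * b)
  rw [hab.orderOf_mul_eq_mul_orderOf_of_coprime hco] at h
  have := orderOf_pos a
  have := orderOf_pos b
  have h2a : 2 ≤ orderOf a := by omega
  have h2b : 2 ≤ orderOf b := by omega
  have hab' : orderOf a ≤ 2 := by nlinarith
  have hba : orderOf b ≤ 2 := by nlinarith
  rw [show orderOf a = 2 by omega, show orderOf b = 2 by omega] at hco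
  norm_num at hco

/-- An element commuting with an element of order 3 has order 1 or 3. -/
theorem orderOf_commute_three {a g : G} (ha : orderOf a = 3) (h : Commute a g) :
    orderOf g = 1 ∨ orderOf g = 3 := by
  by_contra hne
  push Not at hne
  have := orderOf_pos g
  have := h5 g
  refine not_coprime_of_commute h5 h (by omega) hne.1 ?_
  rw [ha]
  obtain h | h | h : orderOf g = 2 ∨ orderOf g = 4 ∨ orderOf g = 5 := by omega
  all_goals rw [h]; norm_num

/-- An element commuting with an involution has order 1, 2 or 4. -/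
theorem orderOf_commute_two {a g : G} (ha : orderOf a = 2) (h : Commute a g) :
    orderOf g = 1 ∨ orderOf g = 2 ∨ orderOf g = 4 := by
  by_contra hne
  push Not at hne
  have := orderOf_pos g
  have := h5 g
  refine not_coprime_of_commute h5 h (by omega) hne.1 ?_
  rw [ha]
  obtain h | h : orderOf g = 3 ∨ orderOf g = 5 := by omega
  all_goals rw [h]; norm_num

omit [Finite G] h5 in
/-- The non-identity elements of cube one have order three. -/
theorem orderOf_three_of_pow {a : G} (h : a ^ 3 = 1) (h1 : a ≠ 1) : orderOf a = 3 := by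
  have : Fact (Nat.Prime 3) := ⟨Nat.prime_three⟩
  exact orderOf_eq_prime h h1

/-- If an involution commutes with its conjugate by an element of order three, its second conjugate is
the product of itself and the first. -/
theorem conj_sq_eq {t e : G} (ht : orderOf t = 2) (he : orderOf e = 3)
    (h : Commute t (e * t * e⁻¹)) : e * (e * t * e⁻¹) * e⁻¹ = t * (e * t * e⁻¹) := by
  have ht2 : t * t = 1 := by rw [← sq, ← ht, pow_orderOf_eq_one]
  have he3 : e * (e * e) = 1 := by rw [← pow_three, ← he, pow_orderOf_eq_one]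
  let φ := MulAut.conj e
  have hb : ∀ g, φ g = e * g * e⁻¹ := fun g => rfl
  rw [← hb, ← hb]
  rw [← hb] at h
  have h3 : φ (φ (φ t)) = t := by
    simp only [hb]
    calc e * (e * (e * t * e⁻¹) * e⁻¹) * e⁻¹ = (e * (e * e)) * t * (e * (e * e))⁻¹ := by group
      _ = t := by rw [he3]; group
  have hbc : Commute (φ t) (φ (φ t)) := h.map φ
  have hca : Commute (φ (φ t)) t := by have := hbc.map φ; rwa [h3] at this
  have hfix : φ (t * φ t * φ (φ t)) = t * φ t * φ (φ t) := by
    rw [map_mul, map_mul, h3, mul_assoc, hca.eq, ← mul_assoc, h.symm.eq]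
  have hc2 : φ (φ t) * φ (φ t) = 1 := by rw [← map_mul, ← map_mul, ht2, map_one, map_one]
  have hn2 : (t * φ t * φ (φ t)) ^ 2 = 1 := by
    rw [(hca.symm.mul_left hbc).mul_pow, h.mul_pow, sq, sq, sq, ht2, ← map_mul, ht2, map_one, hc2,
      one_mul, one_mul]
  by_contra hne
  have hn1 : t * φ t * φ (φ t) ≠ 1 := fun hh => hne (by
    rw [eq_inv_of_mul_eq_one_right hh, inv_eq_of_mul_eq_one_right (a := t * φ t) (b := t * φ t) (by
      rw [← sq, h.mul_pow, sq, sq, ht2, ← map_mul, ht2, map_one, one_mul])])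
  have : Fact (Nat.Prime 2) := ⟨Nat.prime_two⟩
  have hcomm : Commute e (t * φ t * φ (φ t)) := mul_inv_eq_iff_eq_mul.1 hfix
  rcases orderOf_commute_three h5 he hcomm with h1 | h1 <;>
    rw [orderOf_eq_prime hn2 hn1] at h1 <;> omega

/-- An involution does not commute with its conjugates by all the elements of an elementary group of
order nine. -/
theorem false_of_conj_commute {t x w : G} (ht : orderOf t = 2) (hx : orderOf x = 3)
    (hw : orderOf w = 3) (hc : Commute x w) (hne : w ≠ x) (hne' : w * x ≠ 1)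
    (h1 : Commute t (x * t * x⁻¹)) (h2 : Commute t (w * t * w⁻¹))
    (h3 : Commute t (w * x * t * (w * x)⁻¹)) : False := by
  have hx3 : x ^ 3 = 1 := by rw [← hx, pow_orderOf_eq_one]
  have hw3 : w ^ 3 = 1 := by rw [← hw, pow_orderOf_eq_one]
  have hy : orderOf (w * x) = 3 := orderOf_three_of_pow (by rw [hc.symm.mul_pow, hw3, hx3, one_mul]) hne'
  have ex := conj_sq_eq h5 ht hx h1
  have ew := conj_sq_eq h5 ht hw h2
  have ey := conj_sq_eq h5 ht hy h3
  let f := MulAut.conj x
  let g := MulAut.conj w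
  have hf : ∀ a, f a = x * a * x⁻¹ := fun a => rfl
  have hg : ∀ a, g a = w * a * w⁻¹ := fun a => rfl
  have hgf : ∀ a, w * x * a * (w * x)⁻¹ = g (f a) := fun a => by simp [hf, hg, mul_assoc]
  have hfg : ∀ a, g (f a) = f (g a) := fun a => by
    simp only [hf, hg]
    calc w * (x * a * x⁻¹) * w⁻¹ = (w * x) * a * (w * x)⁻¹ := by group
      _ = _ := by rw [← hc.eq]; group
  rw [hgf, hgf] at ey
  rw [← hf, ← hf] at ex
  rw [← hg, ← hg] at ew
  rw [← hfg (f t), ex, map_mul, map_mul, ew, hfg t, hfg (g t), ew, map_mul, ← hfg t] at ey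
  rw [mul_assoc] at ey
  have hcb : g t * (f t * g (f t)) = g (f t) := mul_left_cancel ey
  rw [← mul_assoc, mul_eq_right] at hcb
  have ht2 : t * t = 1 := by rw [← sq, ← ht, pow_orderOf_eq_one]
  have hft : f t * f t = 1 := by rw [← map_mul, ht2, map_one]
  have heq : g t = f t := by
    rw [eq_inv_of_mul_eq_one_left hcb, inv_eq_of_mul_eq_one_right hft]
  have hcomm : Commute (x⁻¹ * w) t := by
    show x⁻¹ * w * t = t * (x⁻¹ * w)
    rw [hf, hg, mul_inv_eq_iff_eq_mul] at heq
    rw [mul_assoc, heq]; group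
  have hxw : orderOf (x⁻¹ * w) = 3 := orderOf_three_of_pow
    (by rw [hc.inv_left.mul_pow, inv_pow, hx3, hw3, inv_one, one_mul])
    (fun hh => hne (inv_mul_eq_one.1 hh).symm)
  rcases orderOf_commute_three h5 hxw hcomm with h | h <;> omega

/-- If an involution inverts an element of order three, it inverts every element commuting with it. -/
theorem inverts_of_inverts {u e g : G} (hu : orderOf u = 2) (he : orderOf e = 3)
    (hue : u * e * u⁻¹ = e⁻¹) (hg : Commute e g) : u * g * u⁻¹ = g⁻¹ := by
  have huu : u * u = 1 := by rw [← sq, ← hu, pow_orderOf_eq_one]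
  let Q := Subgroup.centralizer ({e} : Set G)
  have hmem : ∀ {a : G}, a ∈ Q ↔ Commute e a := fun {a} =>
    Subgroup.mem_centralizer_singleton_iff.trans ⟨fun h => h.symm, fun h => h.symm⟩
  have hn : ∀ a ∈ Q, u * a * u⁻¹ ∈ Q := fun a ha => by
    have := ((hmem.1 ha).inv_left).map (MulAut.conj u)
    simp only [MulAut.conj_apply] at this
    rw [show u * e⁻¹ * u⁻¹ = (u * e * u⁻¹)⁻¹ by group, hue, inv_inv] at this
    exact hmem.2 this
  have h2 : ∀ a : G, u * (u * a * u⁻¹) * u⁻¹ = a := fun a => by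
    calc u * (u * a * u⁻¹) * u⁻¹ = (u * u) * a * (u * u)⁻¹ := by group
      _ = a := by rw [huu]; group
  let σ : Q ≃* Q :=
    { toFun := fun y => ⟨u * y * u⁻¹, hn y y.2⟩
      invFun := fun y => ⟨u * y * u⁻¹, hn y y.2⟩
      left_inv := fun y => Subtype.ext (h2 y)
      right_inv := fun y => Subtype.ext (h2 y)
      map_mul' := fun a b => Subtype.ext (by simp [mul_assoc]) }
  refine congrArg Subtype.val
    (H37.involution_inverts σ (fun y => Subtype.ext (h2 y)) (fun y hy => ?_) ⟨g, hmem.2 hg⟩)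
  by_contra hy1
  have hyG : (y : G) ≠ 1 := fun h => hy1 (Subtype.ext h)
  have hy3 : orderOf (y : G) = 3 :=
    (orderOf_commute_three h5 he (hmem.1 y.2)).resolve_left (fun h => hyG (orderOf_eq_one_iff.1 h))
  have hcu : Commute u (y : G) := mul_inv_eq_iff_eq_mul.1 (congrArg Subtype.val hy)
  rcases orderOf_commute_three h5 hy3 hcu.symm with h | h <;> omega

omit [Finite G] h5 in
theorem orderOf_of_isConj {t u : G} (h : IsConj t u) : orderOf u = orderOf t := by
  obtain ⟨c, rfl⟩ := isConj_iff.1 h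
  exact MulEquiv.orderOf_eq (MulAut.conj c) t

/-- The elements of a Sylow 3-subgroup have cube one. -/
theorem orderOf_sylow (P : Sylow 3 G) {g : G} (hg : g ∈ P) (h1 : g ≠ 1) : orderOf g = 3 := by
  have : Fact (Nat.Prime 3) := ⟨Nat.prime_three⟩
  obtain ⟨k, hk⟩ := IsPGroup.iff_orderOf.1 P.2 ⟨g, hg⟩
  rw [← Subgroup.orderOf_coe] at hk
  have hle := h5 g
  obtain _ | _ | k := k
  · exact absurd (orderOf_eq_one_iff.1 hk) h1
  · simpa using hk
  · have h9 : 3 ^ 2 ≤ 3 ^ (k + 1 + 1) := Nat.pow_le_pow_right (by norm_num) (by omega)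
    have h5' : 3 ^ (k + 1 + 1) ≤ 5 := hk ▸ hle
    exact absurd (h9.trans h5') (by norm_num)

variable (P : Sylow 3 G) (hP : 9 ≤ Nat.card P)
include hP

/-- For every involution some conjugate commuting with it inverts the Sylow 3-subgroup. -/
theorem exists_inverting {d : G} (hd : orderOf d = 2) :
    ∃ u, IsConj d u ∧ Commute u d ∧ ∀ g ∈ P, u * g * u⁻¹ = g⁻¹ := by
  have : Fact (Nat.Prime 3) := ⟨Nat.prime_three⟩
  have : Nontrivial P := Finite.one_lt_card_iff_nontrivial.1 (by omega)
  have := P.2.center_nontrivial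
  obtain ⟨⟨x, hxc⟩, hx1⟩ := exists_ne (1 : Subgroup.center P)
  have hxG : (x : G) ≠ 1 := fun h => hx1 (Subtype.ext (Subtype.ext h))
  have hxo := orderOf_sylow h5 P x.2 hxG
  have hxcomm : ∀ g ∈ P, Commute (x : G) g := fun g hg =>
    (congrArg Subtype.val (Subgroup.mem_center_iff.1 hxc ⟨g, hg⟩)).symm
  obtain ⟨w, hwP, hw⟩ : ∃ w ∈ P, w ∉ Subgroup.zpowers (x : G) := by
    by_contra hcon
    push Not at hcon
    have := Subgroup.card_le_of_le (H := (P : Subgroup G)) (K := Subgroup.zpowers (x : G)) hcon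
    rw [Nat.card_zpowers, hxo] at this
    exact absurd this (by omega)
  have hwG : w ≠ 1 := fun h => hw (h ▸ one_mem _)
  have hwo := orderOf_sylow h5 P hwP hwG
  have hwx : w * (x : G) ≠ 1 := fun h =>
    hw (by rw [eq_inv_of_mul_eq_one_left h]; exact inv_mem (Subgroup.mem_zpowers _))
  have key : ∀ e ∈ P, e ≠ 1 → ¬ Commute d (e * d * e⁻¹) →
      ∃ u, IsConj d u ∧ Commute u d ∧ ∀ g ∈ P, u * g * u⁻¹ = g⁻¹ := by
    intro e he he1 hne
    obtain ⟨u, hdu, hud, hue⟩ :=
      (commute_or_inverting h5 hd (orderOf_sylow h5 P he he1)).resolve_left hne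
    have huo : orderOf u = 2 := (orderOf_of_isConj hdu).trans hd
    have hux := inverts_of_inverts h5 huo (orderOf_sylow h5 P he he1) hue (hxcomm e he).symm
    exact ⟨u, hdu, hud, fun g hg => inverts_of_inverts h5 huo hxo hux (hxcomm g hg)⟩
  by_contra hcon
  exact false_of_conj_commute h5 hd hxo hwo (hxcomm w hwP) (fun h => hw (h ▸ Subgroup.mem_zpowers _))
    hwx (by by_contra h; exact hcon (key x x.2 hxG h)) (by by_contra h; exact hcon (key w hwP hwG h))
    (by by_contra h; exact hcon (key (w * x) (mul_mem hwP x.2) hwx h))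

variable (hinv : ∃ d : G, orderOf d = 2)
include hinv

/-- The Sylow 3-subgroup is abelian. -/
theorem sylow_commute {a b : G} (ha : a ∈ P) (hb : b ∈ P) : Commute a b := by
  obtain ⟨d, hd⟩ := hinv
  obtain ⟨u, -, -, hu⟩ := exists_inverting h5 P hP hd
  have := hu (a * b) (mul_mem ha hb)
  rw [show u * (a * b) * u⁻¹ = u * a * u⁻¹ * (u * b * u⁻¹) by group, hu a ha, hu b hb,
    mul_inv_rev] at this
  exact Commute.inv_inv_iff.1 this

/-- The centralizer of a non-identity element of the Sylow 3-subgroup lies in it. -/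
theorem mem_of_commute {z g : G} (hz : z ∈ P) (hz1 : z ≠ 1) (hg : Commute z g) : g ∈ P := by
  have : Fact (Nat.Prime 3) := ⟨Nat.prime_three⟩
  obtain ⟨d, hd⟩ := hinv
  obtain ⟨u, hdu, -, hu⟩ := exists_inverting h5 P hP hd
  have huo : orderOf u = 2 := (orderOf_of_isConj hdu).trans hd
  have hzo := orderOf_sylow h5 P hz hz1
  have hcomm : ∀ a ∈ P, Commute g a := fun a ha => by
    have hza : Commute z a := sylow_commute h5 P hP ⟨d, hd⟩ hz ha
    have h1 := inverts_of_inverts h5 huo hzo (hu z hz) (hg.mul_right hza)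
    rw [show u * (g * a) * u⁻¹ = u * g * u⁻¹ * (u * a * u⁻¹) by group,
      inverts_of_inverts h5 huo hzo (hu z hz) hg, hu a ha, mul_inv_rev] at h1
    exact Commute.inv_inv_iff.1 h1
  have hgN : g ∈ Subgroup.normalizer ((P : Subgroup G) : Set G) := by
    rw [Subgroup.mem_normalizer_iff]
    refine fun a => ⟨fun ha => ?_, fun ha => ?_⟩
    · show g * a * g⁻¹ ∈ P
      rwa [(hcomm a ha).eq, mul_inv_cancel_right]
    · have h : a = g * a * g⁻¹ := by
        have := (hcomm _ ha).eq
        calc a = g⁻¹ * (g * a * g⁻¹ * g) := by group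
          _ = g * a * g⁻¹ := by rw [← this]; group
      show a ∈ P
      rw [h]; exact ha
  rcases orderOf_commute_three h5 hzo hg with h | h
  · rw [orderOf_eq_one_iff.1 h]; exact one_mem _
  · exact H31.mem_sylow_of_mem_normalizer P hgN (k := 1) (by rw [h, pow_one])

end Cfsg.Agent.H86.OneToFive
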