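import Mathlib.GroupTheory.OrderOfElement
import Mathlib.Tactic.Group
import Mathlib.Algebra.Group.Conj

/-!
An involution and an element of order three in a group with element orders at most five.
-/

set_option autoImplicit false

namespace Cfsg.Agent.H86.OneToFive

/-- All element orders are at most five. -/
def OrderLeFive (G : Type*) [Group G] : Prop := ∀ g : G, orderOf g ≤ 5

variable {G : Type*} [Group G]

/-- If `(t * w) ^ 3 = 1` then `t` commutes with `w * t * w⁻¹`. -/
theorem commute_conj_of_pow_three {t w : G} (ht : t * t = 1) (hw : w * w * w = 1)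
    (h : (t * w) ^ 3 = 1) : Commute t (w * t * w⁻¹) := by
  have hti : t⁻¹ = t := inv_eq_of_mul_eq_one_right ht
  have hwi : w⁻¹ = w * w := inv_eq_of_mul_eq_one_right (by rw [← mul_assoc]; exact hw)
  have e1 : ∀ X, t * (t * X) = X := fun X => by rw [← mul_assoc, ht, one_mul]
  have e2 : ∀ X, w * (w⁻¹ * X) = X := fun X => mul_inv_cancel_left _ _
  have e3 : ∀ X, w⁻¹ * (w * X) = X := fun X => inv_mul_cancel_left _ _
  have e4 : ∀ X, w * (w * X) = w⁻¹ * X := fun X => by rw [hwi, mul_assoc]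
  have e5 : ∀ X, w⁻¹ * (w⁻¹ * X) = w * X := fun X => by rw [← e4 (w⁻¹ * X), e2]
  have h' : t * (w * (t * (w * (t * w)))) = 1 := by rw [← h, pow_three]; group
  have e6 : ∀ X, w * (t * (w * X)) = t * (w⁻¹ * (t * X)) := fun X => by
    have h1 : w * (t * w) = t * (w⁻¹ * (t * 1)) := by
      have h2 := eq_inv_of_mul_eq_one_right (show (t * (w * t)) * (w * (t * w)) = 1 by
        simpa only [mul_assoc] using h')
      rw [h2, mul_inv_rev, mul_inv_rev, hti, mul_one, mul_assoc]
    calc w * (t * (w * X)) = (w * (t * w)) * X := by simp only [mul_assoc]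
      _ = _ := by rw [h1, mul_one]; simp only [mul_assoc]
  have e7 : ∀ X, w⁻¹ * (t * (w⁻¹ * X)) = t * (w * (t * X)) := fun X => by
    apply mul_left_cancel (a := w)
    rw [e2]
    apply mul_left_cancel (a := t)
    have := e6 (t * X)
    rw [e1] at this
    simp only [e1]
    rw [this]
    simp only [e1]
  show t * (w * t * w⁻¹) = w * t * w⁻¹ * t
  rw [← mul_one (t * (w * t * w⁻¹)), ← mul_one (w * t * w⁻¹ * t)]
  simp only [mul_assoc]
  calc t * (w * (t * (w⁻¹ * 1))) = t * (w * (t * (w * (w * 1)))) := by rw [e4]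
    _ = w⁻¹ * (t * (w * 1)) := by rw [e6]; simp only [e1]
    _ = w * (w * (t * (w * 1))) := by rw [e4]
    _ = w * (t * (w⁻¹ * (t * 1))) := by rw [e6]

/-- If `(t * w) ^ 4 = 1` a conjugate of `t` commutes with `t` and inverts `w`. -/
theorem inverting_of_pow_four {t w : G} (ht : t * t = 1) (hw : w * w * w = 1) (h : (t * w) ^ 4 = 1) :
    Commute (w * t * w * t * (w * t * w)⁻¹) t ∧
      (w * t * w * t * (w * t * w)⁻¹ * w) * (w * t * w * t * (w * t * w)⁻¹ * w) = 1 := by
  have hti : t⁻¹ = t := inv_eq_of_mul_eq_one_right ht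
  have hwi : w⁻¹ = w * w := inv_eq_of_mul_eq_one_right (by rw [← mul_assoc]; exact hw)
  have e1 : ∀ X, t * (t * X) = X := fun X => by rw [← mul_assoc, ht, one_mul]
  have e2 : ∀ X, w * (w⁻¹ * X) = X := fun X => mul_inv_cancel_left _ _
  have e3 : ∀ X, w⁻¹ * (w * X) = X := fun X => inv_mul_cancel_left _ _
  have e4 : ∀ X, w * (w * X) = w⁻¹ * X := fun X => by rw [hwi, mul_assoc]
  have e5 : ∀ X, w⁻¹ * (w⁻¹ * X) = w * X := fun X => by rw [← e4 (w⁻¹ * X), e2]
  have h' : ∀ X, t * (w * (t * (w * (t * (w * (t * (w * X))))))) = X := fun X => by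
    rw [show t * (w * (t * (w * (t * (w * (t * (w * X))))))) = (t * w) ^ 4 * X by
      simp only [pow_succ, pow_zero, one_mul, mul_assoc], h, one_mul]
  have r1 : ∀ X, t * (w * (t * X)) = w⁻¹ * (t * (w⁻¹ * (t * (w⁻¹ * X)))) := fun X => by
    apply mul_left_cancel (a := w)
    rw [e2]
    apply mul_left_cancel (a := t)
    simp only [e1]
    apply mul_left_cancel (a := w)
    rw [e2]
    apply mul_left_cancel (a := t)
    simp only [e1]
    apply mul_left_cancel (a := w)
    rw [e2]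
    exact mul_left_cancel (h' (t * X))
  have r2 : ∀ X, w⁻¹ * (t * (w⁻¹ * X)) = t * (w * (t * (w * (t * X)))) := fun X => by
    rw [r1 (w * (t * X))]; simp only [e1, e3]
  constructor
  · have : t * (w * t * w * t * (w * t * w)⁻¹) * (t * (w * t * w * t * (w * t * w)⁻¹)) * 1 = 1 := by
      simp only [mul_inv_rev, hti, mul_assoc, e1, e2, e3, e4, e5]
      rw [r2]; simp only [e1, e2, e3, e4, e5]
      rw [r2]; simp only [e1, e2, e3, e4, e5]
      rw [r2]; simp only [e1, e2, e3, e4, e5]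
    rw [mul_one] at this
    generalize hu : w * t * w * t * (w * t * w)⁻¹ = u at this ⊢
    have hu2 : u * u = 1 := by
      rw [← hu, show ∀ g : G, g * t * g⁻¹ * (g * t * g⁻¹) = g * (t * t) * g⁻¹ from fun g => by group,
        ht]; group
    have hui : u⁻¹ = u := inv_eq_of_mul_eq_one_right hu2
    have h1 := inv_eq_of_mul_eq_one_right this
    rw [mul_inv_rev, hui, hti] at h1
    exact h1
  · rw [← mul_one ((w * t * w * t * (w * t * w)⁻¹ * w) * (w * t * w * t * (w * t * w)⁻¹ * w))]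
    simp only [mul_inv_rev, hti, mul_assoc, e1, e2, e3, e4, e5]
    rw [r1]; simp only [e1, e2, e3, e4, e5]
    rw [r1]; simp only [e1, e2, e3, e4, e5]

/-- If `(t * w) ^ 5 = 1` a conjugate of `t` commutes with `t` and inverts `w`. -/
theorem inverting_of_pow_five {t w : G} (ht : t * t = 1) (hw : w * w * w = 1) (h : (t * w) ^ 5 = 1) :
    Commute (w * t * w * t * w⁻¹ * t * (w * t * w * t * w⁻¹)⁻¹) t ∧
      (w * t * w * t * w⁻¹ * t * (w * t * w * t * w⁻¹)⁻¹ * w) *
        (w * t * w * t * w⁻¹ * t * (w * t * w * t * w⁻¹)⁻¹ * w) = 1 := by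
  have hti : t⁻¹ = t := inv_eq_of_mul_eq_one_right ht
  have hwi : w⁻¹ = w * w := inv_eq_of_mul_eq_one_right (by rw [← mul_assoc]; exact hw)
  have e1 : ∀ X, t * (t * X) = X := fun X => by rw [← mul_assoc, ht, one_mul]
  have e2 : ∀ X, w * (w⁻¹ * X) = X := fun X => mul_inv_cancel_left _ _
  have e3 : ∀ X, w⁻¹ * (w * X) = X := fun X => inv_mul_cancel_left _ _
  have e4 : ∀ X, w * (w * X) = w⁻¹ * X := fun X => by rw [hwi, mul_assoc]
  have e5 : ∀ X, w⁻¹ * (w⁻¹ * X) = w * X := fun X => by rw [← e4 (w⁻¹ * X), e2]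
  have h' : ∀ X, t * (w * (t * (w * (t * (w * (t * (w * (t * (w * X))))))))) = X := fun X => by
    rw [show t * (w * (t * (w * (t * (w * (t * (w * (t * (w * X))))))))) = (t * w) ^ 5 * X by
      simp only [pow_succ, pow_zero, one_mul, mul_assoc], h, one_mul]
  have r1 : ∀ X, t * (w * (t * (w * X))) = w⁻¹ * (t * (w⁻¹ * (t * (w⁻¹ * (t * X))))) := fun X => by
    apply mul_left_cancel (a := w)
    rw [e2]
    apply mul_left_cancel (a := t)
    simp only [e1]
    apply mul_left_cancel (a := w)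
    rw [e2]
    apply mul_left_cancel (a := t)
    simp only [e1]
    apply mul_left_cancel (a := w)
    rw [e2]
    apply mul_left_cancel (a := t)
    simp only [e1]
    exact h' X
  have r2 : ∀ X, w⁻¹ * (t * (w⁻¹ * (t * X))) = t * (w * (t * (w * (t * (w * X))))) := fun X => by
    rw [r1 (t * (w * X))]; simp only [e1, e3]
  constructor
  · have : t * (w * t * w * t * w⁻¹ * t * (w * t * w * t * w⁻¹)⁻¹) *
        (t * (w * t * w * t * w⁻¹ * t * (w * t * w * t * w⁻¹)⁻¹)) * 1 = 1 := by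
      simp only [mul_inv_rev, inv_inv, hti, mul_assoc, e1, e2, e3, e4, e5]
      rw [r2]; simp only [e1, e2, e3, e4, e5]
      rw [r2]; simp only [e1, e2, e3, e4, e5]
      rw [r2]; simp only [e1, e2, e3, e4, e5]
      rw [r2]; simp only [e1, e2, e3, e4, e5]
      rw [r2]; simp only [e1, e2, e3, e4, e5]
      rw [r2]; simp only [e1, e2, e3, e4, e5]
    rw [mul_one] at this
    generalize hu : w * t * w * t * w⁻¹ * t * (w * t * w * t * w⁻¹)⁻¹ = u at this ⊢
    have hu2 : u * u = 1 := by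
      rw [← hu, show ∀ g : G, g * t * g⁻¹ * (g * t * g⁻¹) = g * (t * t) * g⁻¹ from fun g => by group,
        ht]; group
    have hui : u⁻¹ = u := inv_eq_of_mul_eq_one_right hu2
    have h1 := inv_eq_of_mul_eq_one_right this
    rw [mul_inv_rev, hui, hti] at h1
    exact h1
  · rw [← mul_one ((w * t * w * t * w⁻¹ * t * (w * t * w * t * w⁻¹)⁻¹ * w) *
      (w * t * w * t * w⁻¹ * t * (w * t * w * t * w⁻¹)⁻¹ * w))]
    simp only [mul_inv_rev, inv_inv, hti, mul_assoc, e1, e2, e3, e4, e5]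
    rw [r1]; simp only [e1, e2, e3, e4, e5]
    rw [r1]; simp only [e1, e2, e3, e4, e5]
    rw [r1]; simp only [e1, e2, e3, e4, e5]
    rw [r1]; simp only [e1, e2, e3, e4, e5]

/-- For an involution `t` and an element `w` of order `3`: either `t` commutes with its conjugate by `w`,
or some conjugate of `t` commutes with `t` and inverts `w`. -/
theorem commute_or_inverting (h5 : OrderLeFive G) [Finite G] {t w : G} (ht : orderOf t = 2)
    (hw : orderOf w = 3) :
    Commute t (w * t * w⁻¹) ∨ ∃ u, IsConj t u ∧ Commute u t ∧ u * w * u⁻¹ = w⁻¹ := by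
  have ht2 : t * t = 1 := by rw [← sq, ← ht, pow_orderOf_eq_one]
  have hw3 : w * w * w = 1 := by rw [← pow_orderOf_eq_one w, hw, pow_three, mul_assoc]
  have hinv : ∀ u : G, u * u = 1 → (u * w) * (u * w) = 1 → u * w * u⁻¹ = w⁻¹ := fun u hu huw => by
    rw [inv_eq_of_mul_eq_one_right hu, eq_inv_iff_mul_eq_one, mul_assoc, huw]
  have hconj : ∀ g : G, g * t * g⁻¹ * (g * t * g⁻¹) = 1 := fun g => by
    rw [show g * t * g⁻¹ * (g * t * g⁻¹) = g * (t * t) * g⁻¹ by group, ht2]; group
  have hn := h5 (t * w)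
  have hpos := orderOf_pos (t * w)
  have hpow := pow_orderOf_eq_one (t * w)
  obtain h | h | h | h | h : orderOf (t * w) = 1 ∨ orderOf (t * w) = 2 ∨ orderOf (t * w) = 3 ∨
      orderOf (t * w) = 4 ∨ orderOf (t * w) = 5 := by omega
  · rw [h, pow_one] at hpow
    have : w = t := by rw [eq_comm, ← inv_eq_of_mul_eq_one_right hpow]; exact (inv_eq_of_mul_eq_one_right ht2).symm
    rw [this, ht] at hw; omega
  · rw [h, sq] at hpow
    exact Or.inr ⟨t, IsConj.refl t, Commute.refl t, hinv t ht2 hpow⟩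
  · rw [h] at hpow
    exact Or.inl (commute_conj_of_pow_three ht2 hw3 hpow)
  · rw [h] at hpow
    obtain ⟨h1, h2⟩ := inverting_of_pow_four ht2 hw3 hpow
    exact Or.inr ⟨_, isConj_iff.2 ⟨_, rfl⟩, h1, hinv _ (hconj _) h2⟩
  · rw [h] at hpow
    obtain ⟨h1, h2⟩ := inverting_of_pow_five ht2 hw3 hpow
    exact Or.inr ⟨_, isConj_iff.2 ⟨_, rfl⟩, h1, hinv _ (hconj _) h2⟩

end Cfsg.Agent.H86.OneToFive
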